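import Cfsg.Agent.H519.GE.Theta
import Cfsg.Agent.H38.Gs.Inst
import Cfsg.Agent.H169.DP.TraceE6

/-!
# The exceptional automorphisms of `²E₆(q)` (S4327), helper519

* `dgE` : the diagram, `hq` : the norms, `comm_short` : `X (x + y) ≤ ⟨X x, X y⟩` for orthogonal short roots `x`, `y`;
* `te6_top` : every exceptional automorphism has `Reach α 8 ⊤`.
-/

set_option autoImplicit false
set_option linter.unusedSectionVars false

namespace Cfsg.Agent.H519.GE.TwE6

open CoxeterSystem Cfsg.Agent.ChevalleyStructure.CoxeterGeom Cfsg.Agent.Tits.Roots Cfsg.Agent.Tits.Core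
open Cfsg.Lie Cfsg.Agent.ChevalleyStructure
  Cfsg.Agent.Nodes.RGDTwE6 Cfsg.Agent.Nodes.RGDTwCoordE6 Cfsg.Agent.Nodes.RGDTwComE6 Cfsg.Agent.Nodes.KindChev
  Cfsg.Agent.Nodes.BNOf Cfsg.Agent.Nodes.Reps Cfsg.Agent.Nodes.Bruhat Cfsg.Agent.Nodes.Coroot
open Cfsg.Agent.KFacts.RgdDiag Cfsg.Agent.KFacts.RgdField
open Cfsg.Agent.H915.Gs (Gn Reach Reach₁ im)
open scoped commutatorElement

/-- the symmetrising numbers -/
def d : Fin 4 → ℤ := ![2, 2, 1, 1]

theorem hd : ∀ i j, d i * A i j = d j * A j i := by decide +kernel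

theorem dgE : DgF A 0 1 2 3 := by
  constructor <;> decide +kernel

theorem qf_eq (z : Fin 4 → ℤ) : qf A d z z = Qv z := by
  unfold qf pairing Qv Q4 d A
  simp only [Fin.sum_univ_four]
  simp
  ring

section Grp

universe u

variable {W : Type*} [Group W] (cs : CoxeterSystem CoxeterMatrix.F₄ W)

theorem hq (x : Fin 4 → ℤ) (hx : IsRoot cs isCartan x) : qf A d x x = 2 ∨ qf A d x x = 4 := by
  rw [qf_eq]
  rcases long_or_short hx with h | h
  · exact Or.inr h
  · exact Or.inl h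

variable [Finite W] {K : Type u} [Field K] [Fintype K] {q : ℕ} {φ : K →+* K}

/-- **The commutators of orthogonal short root groups.** -/
theorem comm_short (hφ : ∀ x, φ x = x ^ q) (hqq : ∀ t : K, (t ^ q) ^ q = t) (hK : Fintype.card K = q ^ 2)
    (hq1 : 1 < q) (x y : Fin 4 → ℤ) (hx : IsRoot cs isCartan x) (hy : IsRoot cs isCartan y)
    (hx2 : qf A d x x = 2) (hy2 : qf A d y y = 2) (h0 : cpr cs isCartan x y = 0)
    (hxy : IsRoot cs isCartan (x + y)) : X φ q (x + y) ≤ X φ q x ⊔ X φ q y := by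
  have hq0 : qf A d x y = 0 := by
    have := cpr_mul_qf cs isCartan hd x hy
    rw [h0, zero_mul] at this
    linarith
  have hq4 : qf A d (x + y) (x + y) = 4 := by
    rw [qf_add_left, qf_comm hd x, qf_comm hd y (x + y), qf_add_left, qf_add_left, hx2, hy2, hq0, qf_comm hd y x, hq0]
    norm_num
  rw [qf_eq] at hx2 hy2 hq4
  intro g hg
  obtain ⟨a, ha, b, hb, rfl⟩ := Cfsg.Agent.H169.DP.TwE6.exists_comm_long hφ hqq hK hq1 hx hy hxy hx2 hy2 hq4 hg
  rw [commutatorElement_def]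
  exact mul_mem (mul_mem (mul_mem (Subgroup.mem_sup_left ha) (Subgroup.mem_sup_right hb))
    (inv_mem (Subgroup.mem_sup_left ha))) (inv_mem (Subgroup.mem_sup_right hb))

/-- **The exceptional automorphisms of `²E₆(q)`.** -/
theorem te6_top (hφ : ∀ x, φ x = x ^ q) (hqq : ∀ t : K, (t ^ q) ^ q = t) (hK : Fintype.card K = q ^ 2)
    (hq1 : 1 < q) (p : ℕ) [Fact p.Prime] [CharP K p] {α β : MulAut ↥(twistedE6 K q)} {y k b : ↥(twistedE6 K q)}
    {w : W} (hk : Rp cs (rgd cs hφ hqq p).nsys w k)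
    (hb : b ∈ RGD.B cs isCartan (T K q) (X φ q)) (Dβ : Diag (T K q) (X φ q) β 1)
    (hα : MulAut.conj y * α * (MulAut.conj y)⁻¹ = MulAut.conj (k * b) * β)
    (hmax : ∀ (z : ↥(twistedE6 K q)) (w' : W), Cell (rgd cs hφ hqq p).nsys cs isCartan (X φ q) w'
      (z * (k * b) * (β z)⁻¹) → cs.length w' ≤ cs.length w)
    (hw : ∀ x, CoxeterGeom.rep cs isCartan w x = x - cpr cs isCartan x (th 0 1 2 3) • th 0 1 2 3)
    {m : ℕ} (hm : m.Prime) (hαm : α ^ m = 1) : Reach α 8 ⊤ := by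
  refine th_top (rgd cs hφ hqq p) (G1_eq_top cs hφ hqq) hd (hq cs) dgE (comm_short cs hφ hqq hK hq1) hk hb Dβ hα
    hmax hw (N := 5) fun v hv hk' hX => ?_
  have h4 : 4 ≤ Fintype.card K := by rw [hK]; nlinarith
  exact (Cfsg.Agent.H38.Gs.start_te6 hφ hqq h4 p cs (i := 3) (by decide) hk' hb Dβ hα hX hm hαm).1

end Grp

end Cfsg.Agent.H519.GE.TwE6
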