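import Cfsg.Agent.H441.GS.Opp
import Cfsg.Agent.H400.GsBase

/-!
# Automorphisms with `w` fixing the simple roots of `J` (S4327, F4 / 2E6 exceptional case), helper519

`R : RGD cs h p T n X`, `β` a frame automorphism without diagram part, `k` over `w`, `b ∈ B`, such that
`conj (k b) * β` has maximal displacement, and `w α_j = α_j` for `j ∈ J`:

* `exists_form` : every automorphism is conjugate to such a `conj (k b) * β` (with diagram part `σ`);
* `split` : `b ∈ T V_J`;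
* `im_eq` : if `w ρ = -ρ` and `V_J` centralises `X ρ`, then `conj (k b) * β` maps `X ρ` onto `X (-ρ)`, and
  coincides on `X ρ` with `δ = conj (k t) * β`, which maps `X r` onto `X (w r)` for every root `r`.
-/

set_option autoImplicit false
set_option linter.unusedSectionVars false

namespace Cfsg.Agent.H519.GE

open CoxeterSystem Cfsg.Agent.ChevalleyStructure.CoxeterGeom Cfsg.Agent.Tits.Roots Cfsg.Agent.Tits.Core
  Cfsg.Agent.Tits.Exchange Cfsg.Agent.Nodes.Reps Cfsg.Agent.Nodes.BNOf Cfsg.Agent.Nodes.StabComb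
  Cfsg.Agent.Nodes.Bruhat Cfsg.Agent.Nodes.OppDec Cfsg.Agent.Nodes.LeviDec Cfsg.Agent.Nodes.NormalForm
  Cfsg.Agent.Nodes.Coroot Cfsg.Agent.Nodes.PosPair Cfsg.Agent.Nodes.SubComb
open Cfsg.Agent.KFacts.RgdOpp Cfsg.Agent.KFacts.RgdAut Cfsg.Agent.KFacts.RgdDiag Cfsg.Agent.KFacts.RgdRigid
open scoped commutatorElement

variable {I W Y : Type*} [Fintype I] [DecidableEq I] [Group W] [Group Y] {M : CoxeterMatrix I}
  {cs : CoxeterSystem M W} {A : I → I → ℤ} {h : IsCartan M A} {p : ℕ} {T : Subgroup Y} {n : I → Y}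
  {X : (I → ℤ) → Subgroup Y}

section

variable (R : RGD cs h p T n X) [Finite W]

include R

/-- **Maximal displacement**: every automorphism is conjugate to `conj (k b) * β`, of maximal displacement. -/
theorem exists_form [Finite Y] [Fact p.Prime] (hG : GG cs h T X = ⊤) (α : MulAut Y) :
    ∃ (y k b : Y) (w : W) (β : MulAut Y) (σ : Equiv.Perm I), Rp cs R.nsys w k ∧ b ∈ RGD.B cs h T X ∧
      Diag T X β σ ∧ Fix β (RGD.B cs h T X) ∧
      MulAut.conj y * α * (MulAut.conj y)⁻¹ = MulAut.conj (k * b) * β ∧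
      ∀ (z : Y) (w' : W), Cell R.nsys cs h X w' (z * (k * b) * (β z)⁻¹) → cs.length w' ≤ cs.length w := by
  obtain ⟨g₀, σ, D, hB⟩ := Cfsg.Agent.H934.RowRgd.exists_conj_diag R hG α
  obtain ⟨β, hβ⟩ : ∃ β, β = MulAut.conj g₀ * α := ⟨_, rfl⟩
  rw [← hβ] at D hB
  have hαβ : α = MulAut.conj g₀⁻¹ * β := by rw [hβ, map_inv, inv_mul_cancel_left]
  have hconj : ∀ y : Y, MulAut.conj y * α * (MulAut.conj y)⁻¹ = MulAut.conj (y * g₀⁻¹ * (β y)⁻¹) * β := by
    intro y
    rw [hαβ]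
    ext x
    simp only [MulAut.mul_apply, MulAut.conj_apply, ← map_inv MulAut.conj, map_mul β, map_inv β, mul_inv_rev, inv_inv,
      mul_assoc]
  obtain ⟨y, w, hy, hmax⟩ := Cfsg.Agent.H441.GS.exists_max R hG β g₀⁻¹
  obtain ⟨b₁, hb₁, k, hk, b₂, hb₂, e⟩ := hy
  have ekb : k * (b₂ * β b₁) = b₁⁻¹ * (y * g₀⁻¹ * (β y)⁻¹) * β b₁ := by rw [e]; group
  refine ⟨b₁⁻¹ * y, k, b₂ * β b₁, w, β, σ, hk, mul_mem hb₂ ((hB b₁).2 hb₁), D, hB, ?_, ?_⟩
  · rw [hconj, ekb]
    congr 2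
    rw [map_mul, map_inv, mul_inv_rev, inv_inv]
    simp only [mul_assoc]
  · intro z w' hz
    refine hmax (z * b₁⁻¹) w' ?_
    have e2 : z * b₁⁻¹ * (y * g₀⁻¹ * (β y)⁻¹) * (β (z * b₁⁻¹))⁻¹ = z * (k * (b₂ * β b₁)) * (β z)⁻¹ := by
      rw [ekb, map_mul, map_inv]
      group
    rw [e2]
    exact hz

/-- additivity of the length -/
theorem length_add {w : W} {J : Set I} (hJ : ∀ j ∈ J, rep cs h w (sr j) = sr j) {v : W} (hv : v ∈ WJ cs J) :
    cs.length (w * v) = cs.length w + cs.length v := by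
  have h1 : IsMinR cs J w := by
    rw [isMinR_iff]
    intro i hi
    refine (lt_iff' cs h w i).2 ?_
    change 0 ≤ rep cs h w (sr i)
    rw [hJ i hi]
    exact sr_nonneg i
  exact h1 v hv

/-- `w` commutes with the simple reflections of `J` -/
theorem comm_simple {w : W} {j : I} (hj : rep cs h w (sr j) = sr j) : w * cs.simple j * w⁻¹ = cs.simple j := by
  rw [← mul_inv_eq_one]
  refine eq_one_of_fix cs h _ fun i => ?_
  change rep cs h (w * cs.simple j * w⁻¹ * (cs.simple j)⁻¹) (sr i) = sr i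
  rw [inv_simple, rep_mul_apply]
  have h1 : ∀ x, rep cs h (w * cs.simple j * w⁻¹) x = rep cs h (cs.simple j) x := by
    intro x
    have h2 := rep_rfl'_eq cs h w j x
    have h3 := rep_rfl'_eq cs h 1 j x
    rw [hj] at h2
    rw [map_one, Module.End.one_apply] at h3
    have h4 : rfl' cs w j = w * cs.simple j * w⁻¹ := rfl
    have h5 : rfl' cs 1 j = cs.simple j := by
      change 1 * cs.simple j * 1⁻¹ = _
      rw [one_mul, inv_one, mul_one]
    rw [h4] at h2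
    rw [h5] at h3
    rw [h2, h3]
  rw [h1, ← rep_mul_apply, simple_mul_simple_self, map_one, Module.End.one_apply]

theorem comm_WJ {w : W} {J : Set I} (hJ : ∀ j ∈ J, rep cs h w (sr j) = sr j) {v : W} (hv : v ∈ WJ cs J) :
    w * v * w⁻¹ = v := by
  induction hv using Subgroup.closure_induction with
  | mem v hv =>
    obtain ⟨j, hj, rfl⟩ := hv
    exact comm_simple R (hJ j hj)
  | one => rw [mul_one, mul_inv_cancel]
  | mul a b _ _ ha hb =>
    have e : w * (a * b) * w⁻¹ = (w * a * w⁻¹) * (w * b * w⁻¹) := by group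
    rw [e, ha, hb]
  | inv a _ ha =>
    have e : w * a⁻¹ * w⁻¹ = (w * a * w⁻¹)⁻¹ := by group
    rw [e, ha]

omit R in
theorem hat_one (hσ : ∀ i j, M ((1 : Equiv.Perm I) i) ((1 : Equiv.Perm I) j) = M i j) (w : W) :
    hat cs 1 hσ w = w := by
  obtain ⟨ω, rfl⟩ := cs.wordProd_surjective w
  induction ω with
  | nil => rw [wordProd_nil, map_one]
  | cons i ω ih => rw [wordProd_cons, map_mul, hat_simple, ih, Equiv.Perm.one_apply]

/-- **The splitting**: `b ∈ T V_J`. -/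
theorem split {β : MulAut Y} (D : Diag T X β 1) {w : W} {k b : Y} (hk : Rp cs R.nsys w k)
    (hb : b ∈ RGD.B cs h T X)
    (hmax : ∀ (z : Y) (w' : W), Cell R.nsys cs h X w' (z * (k * b) * (β z)⁻¹) → cs.length w' ≤ cs.length w)
    {J : Set I} (hJ : ∀ j ∈ J, rep cs h w (sr j) = sr j) :
    ∃ t ∈ T, ∃ v ∈ VJ cs h X J, b = t * v := by
  obtain ⟨t, ht, u, hu, rfl⟩ := R.mem_B.1 hb
  obtain ⟨a, ha, v, hv, rfl⟩ := (mem_U_iff R (J := J)).1 hu
  have hL := isLongest_wJ cs J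
  obtain ⟨m, hm⟩ := exists_rp cs R.nsys (wJ cs J)
  have hmJ : m ∈ LJ cs h T X J := rp_mem_LJ R hL.mem hm
  -- the element `z = k m k⁻¹`
  have hz : Rp cs R.nsys (wJ cs J) (k * m * k⁻¹) := by
    have := (hk.mul hm).mul hk.inv
    rwa [comm_WJ R hJ hL.mem] at this
  have hβz : Rp cs R.nsys (wJ cs J) (β (k * m * k⁻¹)) := by
    have := D.rp' (R := R) (fun i j => rfl) hz
    have h0 := hat_one (cs := cs) (fun i j => rfl) (wJ cs J)
    rwa [h0] at this
  have ht' : m * (β (k * m * k⁻¹))⁻¹ ∈ T := by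
    have := hm.mul hβz.inv
    rw [mul_inv_cancel] at this
    exact this.mem_of_one
  -- the element of the parabolic subgroup
  have hbP : t * (a * v) ∈ PJ cs h T X J := B_le_PJ hb
  obtain ⟨y, hy⟩ : ∃ y, y = m * (t * (a * v)) * (β (k * m * k⁻¹))⁻¹ := ⟨_, rfl⟩
  have hyP : y ∈ PJ cs h T X J := by
    rw [hy]
    have h1 : (β (k * m * k⁻¹))⁻¹ = m⁻¹ * (m * (β (k * m * k⁻¹))⁻¹) := by group
    rw [h1]
    exact mul_mem (mul_mem (LJ_le_PJ hmJ) hbP) (mul_mem (inv_mem (LJ_le_PJ hmJ)) (LJ_le_PJ (T_le_LJ ht')))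
  obtain ⟨v', hv', hc⟩ := (mem_PJ_iff_cell R).1 hyP
  have hky := Cell.mul_of_length R (length_add R hJ hv') (cell_of_rp (h := h) (X := X) hk) hc
  have h1 := hmax (k * m * k⁻¹) (w * v') (by
    have e : k * m * k⁻¹ * (k * (t * (a * v))) * (β (k * m * k⁻¹))⁻¹ = k * y := by rw [hy]; group
    rw [e]
    exact hky)
  rw [length_add R hJ hv'] at h1
  have h2 : v' = 1 := by
    rw [← cs.length_eq_zero_iff]
    omega
  subst h2
  have hyB := hc.mem_of_one
  -- `m b m⁻¹ ∈ B`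
  have h3 : m * (t * (a * v)) * m⁻¹ ∈ RGD.B cs h T X := by
    have e : m * (t * (a * v)) * m⁻¹ = y * (m * (β (k * m * k⁻¹))⁻¹)⁻¹ := by rw [hy]; group
    rw [e]
    exact mul_mem hyB (inv_mem (RGD.T_le_B ht'))
  have hmT : m * t * m⁻¹ ∈ T := (Subgroup.mem_normalizer_iff.1 hm.mem_normalizer t).1 ht
  have hmv : m * v * m⁻¹ ∈ VJ cs h X J :=
    (Subgroup.mem_normalizer_iff.1 (LJ_le_normalizer_VJ R J hmJ) v).1 hv
  have h4 : m * a * m⁻¹ ∈ RGD.B cs h T X := by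
    have e : m * a * m⁻¹ = (m * t * m⁻¹)⁻¹ * (m * (t * (a * v)) * m⁻¹) * (m * v * m⁻¹)⁻¹ := by group
    rw [e]
    exact mul_mem (mul_mem (inv_mem (RGD.T_le_B hmT)) h3) (inv_mem (VJ_le_B J hmv))
  have h5 : m * a * m⁻¹ ∈ UN cs h X := by
    refine conj_mem_Sup R hm (S := PosJ cs h J) (fun x hx => hx.1) (fun x hx => ?_) ha
    exact ⟨hx.1.act _, rep_longest_nonpos hL hx⟩
  have h6 := eq_one_of_mem_UN_of_mem_B R h5 h4
  have h7 : a = 1 := by
    have e : a = m⁻¹ * (m * a * m⁻¹) * m := by group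
    rw [e, h6]; group
  refine ⟨t, ht, v, hv, by rw [h7, one_mul]⟩

/-- the automorphism `δ = conj k * β` permutes the root groups -/
theorem map_root {β : MulAut Y} (D : Diag T X β 1) {w : W} {k : Y} (hk : Rp cs R.nsys w k) {r : I → ℤ}
    (hr : IsRoot cs h r) (x : Y) : (MulAut.conj k * β) x ∈ X (rep cs h w r) ↔ x ∈ X r := by
  have h1 : β x ∈ X r ↔ x ∈ X r := Diag.root_comp R D (fun i j => rfl) hr x
  rw [← h1, MulAut.mul_apply, MulAut.conj_apply, ← R.conj_rp hk hr, conj_mem_cj]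

/-- **The root group `X ρ`**, `w ρ = -ρ`, centralised by `V_J`. -/
theorem im_eq {β : MulAut Y} (D : Diag T X β 1) {w : W} {k b t v : Y} (hk : Rp cs R.nsys w k)
    (ht : t ∈ T) {J : Set I} (hv : v ∈ VJ cs h X J) (hb : b = t * v) {ρ : I → ℤ} (hρ : IsRoot cs h ρ)
    (hw : rep cs h w ρ = -ρ)
    (hc : ∀ x ∈ NotJ cs h J, ∀ u ∈ X x, ∀ z ∈ X ρ, u * z = z * u) :
    (∀ x ∈ X ρ, (MulAut.conj (k * b) * β) x = (MulAut.conj (k * t) * β) x) ∧
      Rp cs R.nsys w (k * t) ∧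
      Cfsg.Agent.H915.Gs.im (MulAut.conj (k * b) * β) (X ρ) = X (-ρ) := by
  have h1 : ∀ z ∈ X ρ, v * z = z * v := fun z hz => Cfsg.Agent.H441.GS.comm_Sup R hc hv hz
  have h2 : Rp cs R.nsys w (k * t) := hk.mul_mem_right ht
  have h3 : ∀ x ∈ X ρ, (MulAut.conj (k * b) * β) x = (MulAut.conj (k * t) * β) x := by
    intro x hx
    have h4 : β x ∈ X ρ := (Diag.root_comp R D (fun i j => rfl) hρ x).2 hx
    rw [MulAut.mul_apply, MulAut.mul_apply, MulAut.conj_apply, MulAut.conj_apply, hb]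
    have e : k * (t * v) * β x * (k * (t * v))⁻¹ = k * t * (v * β x * v⁻¹) * (k * t)⁻¹ := by group
    rw [e, h1 _ h4, mul_inv_cancel_right]
  refine ⟨h3, h2, ?_⟩
  have h5 := fun x => map_root R D h2 hρ x
  rw [hw] at h5
  ext x
  constructor
  · rintro ⟨y, hy, rfl⟩
    change (MulAut.conj (k * b) * β) y ∈ _
    rw [h3 y hy]
    exact (h5 y).2 hy
  · intro hx
    obtain ⟨y, rfl⟩ := (MulAut.conj (k * t) * β).surjective x
    have hy := (h5 y).1 hx
    exact ⟨y, hy, h3 y hy⟩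

end

end Cfsg.Agent.H519.GE
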